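import Cfsg.Agent.LX4.OD

set_option autoImplicit false
set_option maxRecDepth 1000000
set_option maxHeartbeats 0
set_option Elab.async false

namespace CF.P83

open CF.Comp

/-- further relators of the subgroup -/
def RK : List (List Nat) := [[1, 5, 1, 5, 1, 5, 1, 5],
  [3, 7, 3, 7, 3, 7, 3, 7],
  [5, 9, 5, 9, 5, 9, 5, 9],
  [5, 13, 5, 13, 5, 13, 5, 13],
  [7, 11, 7, 11, 7, 11, 7, 11],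
  [7, 15, 7, 15, 7, 15, 7, 15],
  [1, 3, 1, 7, 3, 1, 7, 3, 7],
  [3, 5, 7, 3, 5, 7, 5, 3, 7],
  [5, 7, 5, 11, 7, 5, 11, 7, 11],
  [5, 7, 5, 15, 7, 5, 15, 7, 15],
  [7, 9, 11, 7, 9, 11, 9, 7, 11],
  [7, 13, 15, 7, 13, 15, 13, 7, 15],
  [1, 3, 7, 3, 1, 5, 7, 3, 7, 5],
  [5, 7, 11, 7, 5, 9, 11, 7, 11, 9],
  [5, 7, 15, 7, 5, 13, 15, 7, 15, 13],
  [1, 5, 7, 11, 7, 5, 1, 7, 11, 7, 11],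
  [1, 5, 7, 15, 7, 5, 1, 7, 15, 7, 15],
  [1, 5, 9, 1, 7, 9, 5, 1, 7, 5, 7],
  [1, 5, 9, 7, 5, 7, 9, 5, 1, 7, 9],
  [1, 5, 13, 7, 5, 7, 13, 5, 1, 7, 13],
  [3, 5, 11, 3, 7, 11, 7, 5, 7, 11, 7],
  [3, 5, 11, 7, 3, 7, 5, 7, 3, 7, 11],
  [3, 5, 15, 3, 7, 15, 7, 5, 7, 15, 7],
  [3, 7, 3, 7, 9, 5, 7, 3, 7, 5, 9],
  [3, 7, 3, 7, 13, 5, 7, 3, 7, 5, 13],
  [3, 7, 5, 7, 9, 5, 7, 3, 9, 5, 9],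
  [3, 7, 5, 7, 13, 5, 7, 3, 13, 5, 13],
  [5, 7, 9, 15, 7, 15, 9, 5, 7, 15, 7],
  [5, 7, 11, 7, 5, 13, 7, 11, 7, 11, 13],
  [1, 3, 7, 5, 1, 5, 9, 7, 3, 1, 9, 5],
  [1, 5, 1, 9, 5, 1, 9, 5, 1, 9, 5, 9],
  [1, 5, 1, 13, 5, 1, 13, 5, 1, 13, 5, 13],
  [1, 5, 9, 5, 7, 11, 9, 5, 1, 9, 11, 7],
  [1, 5, 13, 5, 7, 15, 13, 5, 1, 13, 15, 7],
  [3, 5, 7, 11, 3, 7, 11, 5, 7, 3, 11, 7],
  [3, 5, 7, 15, 3, 7, 15, 5, 7, 3, 15, 7],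
  [3, 7, 3, 11, 7, 3, 11, 7, 3, 11, 7, 11],
  [3, 7, 3, 15, 7, 3, 15, 7, 3, 15, 7, 15],
  [5, 7, 9, 5, 13, 9, 5, 7, 13, 5, 9, 13],
  [5, 7, 11, 15, 7, 5, 11, 7, 15, 11, 7, 15],
  [5, 9, 13, 5, 9, 13, 5, 13, 9, 5, 13, 9],
  [7, 11, 15, 7, 11, 15, 7, 15, 11, 7, 15, 11]]

/-- pairs of words that are linked by the new generator -/
def TT : List (List Nat × Nat × List Nat × Nat × List Nat) := [([1], 17, [1], 0, [1]),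
  ([3], 17, [3], 0, [3]),
  ([9], 17, [9], 0, [9]),
  ([11], 17, [11], 0, [11]),
  ([13], 17, [13], 0, [13]),
  ([15], 17, [15], 0, [15]),
  ([5, 9, 13, 5], 18, [1, 5, 13, 9, 5, 1], 104, [9, 13]),
  ([5, 1, 13, 5, 9], 17, [5, 13, 1, 5, 9], 164, [1, 9, 13]),
  ([5, 1, 9, 5, 13], 17, [5, 9, 1, 5, 13], 194, [1, 9, 13]),
  ([5, 9, 13, 5, 1, 3], 18, [5, 13, 9, 5, 3, 1], 104, [1, 9, 13, 3]),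
  ([5, 1, 3, 9, 5, 13], 18, [5, 9, 3, 1, 5, 13], 194, [1, 9, 13, 3]),
  ([5, 1, 3, 13, 5, 9], 18, [5, 13, 3, 1, 5, 9], 164, [1, 9, 13, 3]),
  ([1, 5, 9, 5, 13, 5, 1], 18, [5, 13, 5, 9, 5], 445, [9, 13]),
  ([13, 5, 1, 5, 9, 5], 17, [13, 5, 9, 5, 1, 5], 379, [1, 9, 13]),
  ([5, 9, 5, 1, 13, 5, 9, 5], 18, [5, 13, 1, 5], 26, [1, 13]),
  ([5, 9, 11, 13, 5], 17, [1, 5, 13, 11, 9, 5, 1], 104, [9, 13, 11]),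
  ([1, 5, 9, 15, 13, 5, 1], 17, [5, 13, 15, 9, 5], 445, [9, 15, 13]),
  ([9, 5, 1, 5, 13, 5], 17, [9, 5, 13, 5, 1, 5], 381, [1, 9, 13]),
  ([9, 5, 1, 15, 13, 5], 18, [9, 5, 13, 15, 1, 5], 381, [1, 9, 15, 13]),
  ([5, 13, 5, 1, 9, 5, 13, 5], 18, [5, 9, 1, 5], 28, [1, 9]),
  ([15, 13, 5, 1, 9, 5, 13], 17, [15, 5, 9, 1, 5], 28, [1, 9, 15]),
  ([1, 3, 1, 5, 9, 13, 5, 1, 3], 17, [1, 5, 13, 9, 5], 22, [1, 9, 13]),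
  ([1, 3, 5, 9, 5, 13, 5], 18, [3, 1, 5, 13, 5, 9, 5], 445, [1, 9, 13, 3]),
  ([13, 5, 1, 3, 5, 9, 5], 18, [13, 5, 9, 5, 3, 1, 5], 379, [1, 9, 13, 3]),
  ([1, 3, 5, 13, 5, 9, 5], 18, [3, 1, 5, 9, 5, 13, 5], 475, [1, 9, 13, 3]),
  ([9, 5, 1, 3, 5, 13, 5], 18, [9, 5, 13, 5, 3, 1, 5], 381, [1, 9, 13, 3]),
  ([5, 13, 5, 1, 3, 9, 5, 13, 5], 17, [5, 9, 3, 1, 5], 28, [1, 9, 3]),
  ([5, 9, 5, 1, 3, 13, 5, 9, 5], 17, [5, 13, 3, 1, 5], 26, [1, 13, 3]),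
  ([11, 13, 5, 1, 9, 5, 1], 17, [13, 1, 5, 9, 11, 1, 5], 379, [13, 11, 9]),
  ([13, 5, 1, 9, 5, 1, 5], 18, [13, 5, 1, 5, 9, 1, 5], 439, [9, 13]),
  ([5, 9, 5, 9, 13, 5], 17, [1, 5, 13, 9, 5, 9, 5, 1], 97, [13]),
  ([1, 5, 9, 13, 5, 9, 5, 1], 17, [5, 9, 5, 13, 9, 5], 475, [13]),
  ([5, 9, 5, 1, 5, 15], 17, [13, 5, 1, 5, 9, 5, 13, 15], 131, [1, 9, 15]),
  ([5, 1, 5, 9, 5, 15], 17, [13, 5, 9, 5, 1, 5, 13, 15], 67, [1, 9, 15]),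
  ([5, 9, 5, 15, 13, 5], 17, [1, 5, 13, 15, 5, 9, 5, 1], 104, [9, 15, 13]),
  ([5, 1, 15, 13, 5], 17, [5, 9, 5, 13, 15, 1, 5, 9, 5], 37, [1, 15, 13]),
  ([1, 5, 9, 11, 15, 13, 5, 1], 18, [5, 13, 15, 11, 9, 5], 445, [9, 11, 15, 13]),
  ([5, 1, 5, 13, 5], 18, [11, 9, 5, 13, 5, 1, 5, 9, 11], 37, [1, 13]),
  ([9, 5, 1, 13, 5, 9, 11], 17, [9, 5, 13, 1, 5, 9, 11], 446, [1, 13, 11]),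
  ([11, 9, 5, 1, 13, 5, 1], 17, [9, 1, 5, 13, 11, 1, 5], 26, [13, 11, 9]),
  ([9, 5, 1, 13, 5, 1, 5], 18, [9, 5, 1, 5, 13, 1, 5], 471, [9, 13]),
  ([5, 1, 5, 15, 13, 5, 9], 18, [5, 13, 15, 5, 1, 5, 9], 164, [1, 9, 15, 13]),
  ([9, 5, 1, 13, 15, 13, 5], 17, [9, 5, 13, 15, 13, 1, 5], 381, [1, 9, 13, 15, 13]),
  ([5, 13, 5, 1, 13, 5, 9], 18, [5, 13, 1, 5, 13, 5, 9], 161, [1, 9]),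
  ([1, 7, 5, 9, 13, 5, 1, 7], 18, [7, 5, 13, 9, 5, 7], 358, []),
  ([13, 15, 13, 5, 1, 9, 5], 17, [13, 15, 13, 5, 9, 1, 5], 28, [1, 9, 13, 15, 13])]

/-- the relator of a pair -/
def trel (t : List Nat × Nat × List Nat × Nat × List Nat) : List Nat := 17 :: t.1 ++ t.2.1 :: t.2.2.1

/-- the commutator relator -/
def CM : List Nat := [13, 15, 17, 5, 7, 3, 11, 7, 5, 13, 15, 17, 5, 7, 11, 3, 7, 5, 18, 15, 13, 5, 7, 3, 11, 7, 5, 18, 15, 13, 5, 7, 11, 3, 7, 5]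

/-- all relators -/
def RP : List (List Nat) := CF.LX4.Om.RO ++ (RK ++ ([17, 17, 17] :: (TT.map trel ++ [CM])))

end CF.P83
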